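import Groth.Agent.LGRingLib.Basic
import Groth.Agent.CSA.Basic
import Groth.Agent.CSA.Fibres
import Groth.Agent.CSA.Azumaya
import Mathlib

/-! Finite projective modules over Azumaya algebras over local-global rings. -/

set_option autoImplicit false
set_option linter.style.haveILetI false

open TensorProduct

universe u v w w'

namespace Groth.Agent.LGAz

section Field
variable (k : Type u) [Field k] (A : Type v) [Ring A] [Algebra k A] [IsSimpleRing A] [IsArtinianRing A]
variable (M : Type w) [AddCommGroup M] [Module A M] [Module k M] [IsScalarTower k A M]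
variable (N : Type w') [AddCommGroup N] [Module A N] [Module k N] [IsScalarTower k A N]

/-- over a simple artinian algebra a module surjects onto every module of smaller dimension -/
theorem exists_surjective_of_finrank_le [Module.Finite k M] [Module.Finite k N]
    (h : Module.finrank k N ≤ Module.finrank k M) : ∃ f : M →ₗ[A] N, Function.Surjective f := by
  have : Module.Finite A M := .of_restrictScalars_finite k A M
  have : Module.Finite A N := .of_restrictScalars_finite k A N
  rcases subsingleton_or_nontrivial N with hN | hN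
  · exact ⟨0, fun y => ⟨0, Subsingleton.elim _ _⟩⟩
  have : Nontrivial M := Module.nontrivial_of_finrank_pos (R := k) (lt_of_lt_of_le Module.finrank_pos h)
  obtain ⟨n, hn, S, hS, ⟨e⟩⟩ := (IsSimpleRing.isIsotypic A M).linearEquiv_fun
  obtain ⟨m, hm, T, hT, ⟨e'⟩⟩ := (IsSimpleRing.isIsotypic A N).linearEquiv_fun
  obtain ⟨I, ⟨i⟩⟩ := IsSemisimpleRing.exists_linearEquiv_ideal_of_isSimpleModule A S
  obtain ⟨J, ⟨j⟩⟩ := IsSemisimpleRing.exists_linearEquiv_ideal_of_isSimpleModule A T
  have := IsSimpleModule.congr i.symm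
  have := IsSimpleModule.congr j.symm
  obtain ⟨ij⟩ := IsSimpleRing.isIsotypic A A J I
  let st : S ≃ₗ[A] T := i.trans (ij.trans j.symm)
  have hTfin : Module.Finite k T :=
    Module.Finite.of_injective (T.subtype.restrictScalars k) T.subtype_injective
  have hSfin : Module.Finite k S := Module.Finite.equiv (st.symm.restrictScalars k)
  have hd : Module.finrank k S = Module.finrank k T := (st.restrictScalars k).finrank_eq
  have hpos : 0 < Module.finrank k T := by
    have := IsSimpleModule.nontrivial A T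
    exact Module.finrank_pos
  have e1 := (e.restrictScalars k).finrank_eq
  have e2 := (e'.restrictScalars k).finrank_eq
  rw [Module.finrank_pi_fintype, Finset.sum_const, Finset.card_univ, Fintype.card_fin,
    smul_eq_mul] at e1 e2
  have hnm : m ≤ n := Nat.le_of_mul_le_mul_right (by rwa [← e2, ← hd, ← e1]) hpos
  let F : (Fin n → S) →ₗ[A] (Fin m → T) :=
    LinearMap.pi fun q => st.toLinearMap ∘ₗ LinearMap.proj (Fin.castLE hnm q)
  have hF : Function.Surjective F := by
    intro z
    refine ⟨fun p => if hp : (p : ℕ) < m then st.symm (z ⟨p, hp⟩) else 0, funext fun q => ?_⟩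
    simp [F]
  exact ⟨e'.symm.toLinearMap ∘ₗ F ∘ₗ e.toLinearMap,
    e'.symm.surjective.comp (hF.comp e.surjective)⟩

end Field

variable {R : Type u} [CommRing R] {A : Type v} [Ring A] [Algebra R A]

theorem projective_restrictScalars [Module.Finite R A] [Module.Projective R A] (M : Type w) [AddCommGroup M] [Module A M]
    [Module R M] [IsScalarTower R A M] [Module.Finite A M] [Module.Projective A M] :
    Module.Projective R M := by
  obtain ⟨n, p, i, -, -, hpi⟩ := Module.Finite.exists_comp_eq_id_of_projective A M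
  obtain ⟨c, q, j, -, -, hqj⟩ := Module.Finite.exists_comp_eq_id_of_projective R A
  haveI : Module.Projective R (Fin n → A) := Module.Projective.of_split (LinearMap.pi fun t => j ∘ₗ LinearMap.proj t)
      (LinearMap.pi fun t => q ∘ₗ LinearMap.proj t)
      (LinearMap.ext fun x => funext fun t => LinearMap.congr_fun hqj (x t))
  exact Module.Projective.of_split (i.restrictScalars R) (p.restrictScalars R)
    (LinearMap.ext fun x => LinearMap.congr_fun hpi x)

theorem finite_restrictScalars [Module.Finite R A] (M : Type w) [AddCommGroup M] [Module A M]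
    [Module R M] [IsScalarTower R A M] [Module.Finite A M] : Module.Finite R M :=
  Module.Finite.trans A M

theorem finrank_baseChange_eq_rankAtStalk (m : Ideal R) [hm : m.IsMaximal] (M : Type w)
    [AddCommGroup M] [Module R M] [Module.Finite R M] [Module.Projective R M] :
    Module.finrank (R ⧸ m) ((R ⧸ m) ⊗[R] M) = Module.rankAtStalk (R := R) M ⟨m, inferInstance⟩ := by
  let : Field (R ⧸ m) := Ideal.Quotient.field m
  have := congrFun (Module.rankAtStalk_eq_finrank_of_free (R := R ⧸ m) (M := (R ⧸ m) ⊗[R] M))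
    (⟨⊥, Ideal.isPrime_bot⟩ : PrimeSpectrum (R ⧸ m))
  rw [Module.rankAtStalk_baseChange] at this
  refine this.symm.trans (congrArg _ (PrimeSpectrum.ext ?_))
  change RingHom.ker (Ideal.Quotient.mk m) = m
  exact Ideal.mk_ker

variable (M : Type w) [AddCommGroup M] [Module A M] [Module R M] [IsScalarTower R A M]
  [Module.Finite A M] [Module.Projective A M]
  (N : Type w') [AddCommGroup N] [Module A N] [Module R N] [IsScalarTower R A N]
  [Module.Finite A N] [Module.Projective A N]

/-- a map which is surjective modulo `m` -/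
theorem exists_surjective_mod [IsAzumaya R A] (m : Ideal R) [hm : m.IsMaximal]
    (h : Module.rankAtStalk (R := R) N ⟨m, inferInstance⟩ ≤ Module.rankAtStalk M ⟨m, inferInstance⟩) :
    ∃ f : M →ₗ[A] N, ∀ y, ∃ x, (1 : R ⧸ m) ⊗ₜ[R] f x = (1 : R ⧸ m) ⊗ₜ[R] y := by
  let : Field (R ⧸ m) := Ideal.Quotient.field m
  haveI := finite_restrictScalars (R := R) (A := A) M
  haveI := finite_restrictScalars (R := R) (A := A) N
  haveI := projective_restrictScalars (R := R) (A := A) M
  haveI := projective_restrictScalars (R := R) (A := A) N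
  let k := R ⧸ m
  haveI : IsAzumaya k (k ⊗[R] A) := CSA.isAzumaya_baseChange R k A
  haveI : IsSimpleRing (k ⊗[R] A) := CSA.isSimpleRing_of_isAzumaya k _
  haveI : IsArtinianRing (k ⊗[R] A) := CSA.isArtinianRing_of_finiteDimensional k _
  let hA : ∀ (X : Type w) [AddCommGroup X] [Module A X] [Module R X] [IsScalarTower R A X],
      (k ⊗[R] A →ₐ[k] Module.End k (k ⊗[R] X)) := fun X _ _ _ _ =>
    Algebra.TensorProduct.lift (Algebra.ofId k _)
      ((Module.End.baseChangeHom R k X).comp (Algebra.lsmul R R X))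
      (fun c a => Algebra.commutes c _)
  let hA' : ∀ (X : Type w') [AddCommGroup X] [Module A X] [Module R X] [IsScalarTower R A X],
      (k ⊗[R] A →ₐ[k] Module.End k (k ⊗[R] X)) := fun X _ _ _ _ =>
    Algebra.TensorProduct.lift (Algebra.ofId k _)
      ((Module.End.baseChangeHom R k X).comp (Algebra.lsmul R R X))
      (fun c a => Algebra.commutes c _)
  letI : Module (k ⊗[R] A) (k ⊗[R] M) := Module.compHom _ (hA M).toRingHom
  letI : Module (k ⊗[R] A) (k ⊗[R] N) := Module.compHom _ (hA' N).toRingHom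
  haveI : IsScalarTower k (k ⊗[R] A) (k ⊗[R] M) := ⟨fun c a x => by
    show hA M (c • a) x = c • hA M a x
    rw [map_smul]; rfl⟩
  haveI : IsScalarTower k (k ⊗[R] A) (k ⊗[R] N) := ⟨fun c a x => by
    show hA' N (c • a) x = c • hA' N a x
    rw [map_smul]; rfl⟩
  have hsM : ∀ (a : A) (x : M),
      ((1 : k) ⊗ₜ[R] a) • ((1 : k) ⊗ₜ[R] x) = (1 : k) ⊗ₜ[R] (a • x) := fun a x => by
    show hA M _ _ = _
    simp [hA, Module.End.baseChangeHom]
  have hsN : ∀ (a : A) (x : N),
      ((1 : k) ⊗ₜ[R] a) • ((1 : k) ⊗ₜ[R] x) = (1 : k) ⊗ₜ[R] (a • x) := fun a x => by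
    show hA' N _ _ = _
    simp [hA', Module.End.baseChangeHom]
  obtain ⟨ψ, hψ⟩ := exists_surjective_of_finrank_le k (k ⊗[R] A) (k ⊗[R] M) (k ⊗[R] N)
    (by rw [finrank_baseChange_eq_rankAtStalk, finrank_baseChange_eq_rankAtStalk]; exact h)
  have hπN : ∀ z : k ⊗[R] N, ∃ y : N, (1 : k) ⊗ₜ[R] y = z :=
    TensorProduct.mk_surjective R N k Ideal.Quotient.mk_surjective
  have hπM : ∀ z : k ⊗[R] M, ∃ y : M, (1 : k) ⊗ₜ[R] y = z :=
    TensorProduct.mk_surjective R M k Ideal.Quotient.mk_surjective
  obtain ⟨r, p, i, -, -, hpi⟩ := Module.Finite.exists_comp_eq_id_of_projective A M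
  choose y hy using fun q : Fin r => hπN (ψ ((1 : k) ⊗ₜ[R] p (Pi.single q 1)))
  let f : M →ₗ[A] N := Fintype.linearCombination A y ∘ₗ i
  have hf : ∀ x, (1 : k) ⊗ₜ[R] f x = ψ ((1 : k) ⊗ₜ[R] x) := by
    intro x
    have hx : x = ∑ q, i x q • p (Pi.single q 1) := by
      conv_lhs => rw [← LinearMap.id_apply (R := A) x, ← hpi, LinearMap.comp_apply,
        pi_eq_sum_univ' (i x), map_sum]
      simp [map_smul]
    conv_rhs => rw [hx]
    simp only [f, LinearMap.comp_apply, Fintype.linearCombination_apply, tmul_sum, map_sum]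
    refine Finset.sum_congr rfl fun q _ => ?_
    rw [← hsN, hy, ← map_smul, hsM]
  refine ⟨f, fun z => ?_⟩
  obtain ⟨q, hq⟩ := hψ ((1 : k) ⊗ₜ[R] z)
  obtain ⟨x, rfl⟩ := hπM q
  exact ⟨x, (hf x).trans hq⟩

open MvPolynomial in
theorem exists_surjective [IsAzumaya R A] (hR : LGRing.IsLGRing R)
    (h : ∀ (m : Ideal R) [m.IsMaximal],
      Module.rankAtStalk (R := R) N ⟨m, inferInstance⟩ ≤ Module.rankAtStalk M ⟨m, inferInstance⟩) :
    ∃ f : M →ₗ[A] N, Function.Surjective f := by
  classical
  haveI := finite_restrictScalars (R := R) (A := A) M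
  haveI := finite_restrictScalars (R := R) (A := A) N
  haveI := projective_restrictScalars (R := R) (A := A) N
  obtain ⟨r, p, i, -, -, hpi⟩ := Module.Finite.exists_comp_eq_id_of_projective A M
  obtain ⟨a, pN, iN, -, -, hN⟩ := Module.Finite.exists_comp_eq_id_of_projective R N
  obtain ⟨b, gM, hgM⟩ := Module.Finite.exists_fin' R M
  have hN' : ∀ y, pN (iN y) = y := fun y => LinearMap.congr_fun hN y
  let g : Fin a → N := fun t => pN (Pi.single t 1)
  let u : Fin b → M := fun l => gM (Pi.single l 1)
  let fx : (Fin r × Fin a → R) → (M →ₗ[A] N) := fun x =>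
    Fintype.linearCombination A (fun q => ∑ t, x (q, t) • g t) ∘ₗ i
  let P : Fin a → Fin a → R := fun s t => iN (pN (Pi.single t 1)) s
  let E : Matrix (Fin a) (Fin b ⊕ Fin a) (MvPolynomial (Fin r × Fin a) R) :=
    Matrix.of fun s c => Sum.elim
      (fun l => ∑ q, ∑ t, C (iN (i (u l) q • g t) s) * X (q, t))
      (fun t => C ((if s = t then 1 else 0) - P s t)) c
  have hcol : ∀ x s l, eval x (E s (Sum.inl l)) = iN (fx x (u l)) s := by
    intro x s l
    simp [E, fx, Fintype.linearCombination_apply, Finset.smul_sum, smul_comm (i (u l) _), mul_comm]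
  have hcol' : ∀ x, ∀ v : Fin b ⊕ Fin a → R, (E.map (eval x)).mulVec v =
      iN (fx x (gM (v ∘ Sum.inl))) + ((v ∘ Sum.inr) - iN (pN (v ∘ Sum.inr))) := by
    intro x v
    funext s
    have e1 : gM (v ∘ Sum.inl) = ∑ l, v (Sum.inl l) • u l := by
      conv_lhs => rw [pi_eq_sum_univ' (v ∘ Sum.inl), map_sum]
      simp [u]
    have e2 : iN (pN (v ∘ Sum.inr)) s = ∑ t, v (Sum.inr t) * P s t := by
      conv_lhs => rw [pi_eq_sum_univ' (v ∘ Sum.inr), map_sum, map_sum]
      simp [P, Finset.sum_apply]
    rw [Pi.add_apply, Pi.sub_apply, e1, e2, Matrix.mulVec, dotProduct, Fintype.sum_sum_type]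
    simp only [Matrix.map_apply, hcol, map_sum, LinearMap.map_smul_of_tower, Finset.sum_apply,
      Pi.smul_apply, smul_eq_mul, Function.comp_apply]
    congr 1
    · exact Finset.sum_congr rfl fun l _ => mul_comm _ _
    · simp [E, sub_mul, Finset.sum_sub_distrib, mul_comm (P s _)]
  obtain ⟨x, hx⟩ := LGRingLib.exists_span_eval_eq_top hR
    (fun τ : Fin a → Fin b ⊕ Fin a => (E.submatrix id τ).det) fun m hm => by
    obtain ⟨f, hf⟩ := exists_surjective_mod (A := A) M N m (h m)
    let x : Fin r × Fin a → R := fun qt => iN (f (p (Pi.single qt.1 1))) qt.2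
    have hfx : fx x = f := by
      ext z
      simp only [fx, LinearMap.comp_apply, Fintype.linearCombination_apply]
      have e : ∀ q, ∑ t, x (q, t) • g t = f (p (Pi.single q 1)) := fun q => by
        conv_rhs => rw [← hN' (f (p (Pi.single q 1))), pi_eq_sum_univ' (iN _), map_sum]
        simp [x, g]
      simp only [e, ← map_smul, ← map_sum]
      congr 1
      conv_rhs => rw [← LinearMap.id_apply (R := A) z, ← hpi, LinearMap.comp_apply]
      rw [← pi_eq_sum_univ' (i z)]
    let : Field (R ⧸ m) := Ideal.Quotient.field m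
    let Eb : Matrix (Fin a) (Fin b ⊕ Fin a) (R ⧸ m) :=
      (E.map (eval x)).map (Ideal.Quotient.mk m)
    have hsurj : ∀ w : Fin a → R ⧸ m, ∃ v, Eb.mulVec v = w := by
      intro w
      choose w₀ hw₀ using fun s => Ideal.Quotient.mk_surjective (w s)
      obtain ⟨z, hz⟩ := hf (pN w₀)
      obtain ⟨c, hc⟩ := hgM z
      refine ⟨fun j => Ideal.Quotient.mk m (Sum.elim c w₀ j), funext fun s => ?_⟩
      have := RingHom.map_mulVec (Ideal.Quotient.mk m) (E.map (eval x)) (Sum.elim c w₀) s
      refine this.symm.trans ?_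
      rw [hcol', Sum.elim_comp_inl, Sum.elim_comp_inr, hfx, hc, ← hw₀ s,
        Ideal.Quotient.eq]
      have h0 := LGRingLib.apply_mem_of_one_tmul_eq_zero ((LinearMap.proj s).comp iN)
        (y := f z - pN w₀) (m := m) (by rw [tmul_sub, hz, sub_self])
      simpa [sub_eq_add_neg, add_comm, add_left_comm, add_assoc] using h0
    have hspan : Submodule.span (R ⧸ m) (Set.range Eb.col) = ⊤ := by
      rw [← Matrix.range_mulVecLin, LinearMap.range_eq_top]
      exact hsurj
    obtain ⟨c, hcmem, -, hli⟩ := Submodule.exists_fun_fin_finrank_span_eq (R ⧸ m) (Set.range Eb.col)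
    have hdim : Module.finrank (R ⧸ m) (Submodule.span (R ⧸ m) (Set.range Eb.col)) = a := by
      rw [hspan, finrank_top, Module.finrank_fin_fun]
    choose τ hτ using hcmem
    let τ' : Fin a → Fin b ⊕ Fin a := fun t => τ (Fin.cast hdim.symm t)
    refine ⟨x, τ', fun hmem => ?_⟩
    have hli' : LinearIndependent (R ⧸ m) (Eb.submatrix id τ').col := by
      have : (Eb.submatrix id τ').col = c ∘ Fin.cast hdim.symm := by
        funext t; exact hτ _
      rw [this]; exact hli.comp _ (Fin.cast_injective _)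
    have hunit := (Matrix.isUnit_iff_isUnit_det _).1 (Matrix.linearIndependent_cols_iff_isUnit.1 hli')
    refine hunit.ne_zero ?_
    rw [← Ideal.Quotient.eq_zero_iff_mem.2 hmem, RingHom.map_det (eval x),
      RingHom.map_det (Ideal.Quotient.mk m)]
    rfl
  refine ⟨fx x, fun y => ?_⟩
  let J : Ideal R :=
    { carrier := {c | ∀ v : Fin a → R, ∃ w, (E.map (eval x)).mulVec w = c • v}
      zero_mem' := fun v => ⟨0, by simp⟩
      add_mem' := fun {c d} hc hd v => by
        obtain ⟨w1, h1⟩ := hc v
        obtain ⟨w2, h2⟩ := hd v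
        exact ⟨w1 + w2, by rw [Matrix.mulVec_add, h1, h2, add_smul]⟩
      smul_mem' := fun c d hd v => by
        obtain ⟨w1, h1⟩ := hd v
        exact ⟨c • w1, by rw [Matrix.mulVec_smul, h1, smul_smul]; rfl⟩ }
  have hJ : (1 : R) ∈ J := by
    refine (Ideal.span_le.2 ?_) (hx.symm ▸ Submodule.mem_top)
    rintro _ ⟨τ, rfl⟩ v
    let B := (E.map (eval x)).submatrix id τ
    let z := B.adjugate.mulVec v
    refine ⟨fun c => ∑ t with τ t = c, z t, ?_⟩
    have e : (eval x) (E.submatrix id τ).det = B.det := by rw [RingHom.map_det]; rfl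
    show _ = (eval x) (E.submatrix id τ).det • v
    have h1 : B.mulVec z = B.det • v := by
      rw [Matrix.mulVec_mulVec, Matrix.mul_adjugate, Matrix.smul_mulVec, Matrix.one_mulVec]
    rw [e, ← h1]
    funext s
    simp only [Matrix.mulVec, dotProduct, Finset.mul_sum, B, Matrix.submatrix_apply, id]
    rw [← Finset.sum_fiberwise Finset.univ τ]
    refine Finset.sum_congr rfl fun c _ => Finset.sum_congr rfl fun t ht => ?_
    rw [(Finset.mem_filter.1 ht).2]
  obtain ⟨w, hw⟩ := hJ (iN y)
  rw [hcol', one_smul] at hw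
  refine ⟨gM (w ∘ Sum.inl), ?_⟩
  simpa [hN'] using congrArg pN hw

theorem nonempty_linearEquiv [IsAzumaya R A] (hR : LGRing.IsLGRing R)
    (h : ∀ p : PrimeSpectrum R, Module.rankAtStalk (R := R) M p = Module.rankAtStalk N p) :
    Nonempty (M ≃ₗ[A] N) := by
  obtain ⟨f, hf⟩ := exists_surjective (A := A) M N hR fun m _ => (h ⟨m, inferInstance⟩).ge
  haveI := finite_restrictScalars (R := R) (A := A) M
  haveI := finite_restrictScalars (R := R) (A := A) N
  haveI := projective_restrictScalars (R := R) (A := A) M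
  haveI := projective_restrictScalars (R := R) (A := A) N
  obtain ⟨g, hg⟩ := Module.projective_lifting_property (f.restrictScalars R) LinearMap.id hf
  have hg' : ∀ y, f (g y) = y := fun y => LinearMap.congr_fun hg y
  let K := LinearMap.ker (f.restrictScalars R)
  let q : M →ₗ[R] K := (LinearMap.id - g ∘ₗ f.restrictScalars R).codRestrict K fun x => by
    simp [K, hg']
  let e : M ≃ₗ[R] K × N := LinearEquiv.ofLinear (q.prod (f.restrictScalars R)) (K.subtype.coprod g)
    (LinearMap.ext fun ⟨⟨z, hz⟩, y⟩ => by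
      have hz' : f z = 0 := hz
      simp [q, hz', hg', Subtype.ext_iff])
    (LinearMap.ext fun x => by simp [q])
  haveI : Module.Finite R K := Module.Finite.of_surjective q fun z => ⟨z, by
    have hz' : f z = 0 := z.2
    simp [q, hz', Subtype.ext_iff]⟩
  haveI : Module.Projective R K := Module.Projective.of_split K.subtype q (LinearMap.ext fun z => by
    have hz' : f z = 0 := z.2
    simp [q, hz', Subtype.ext_iff])
  have hK : Subsingleton K := by
    rw [← Module.rankAtStalk_eq_zero_iff_subsingleton (R := R)]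
    funext p
    have := congrFun (Module.rankAtStalk_eq_of_equiv e) p
    rw [Module.rankAtStalk_prod, Pi.add_apply, h p] at this
    simp only [Pi.zero_apply]; omega
  refine ⟨LinearEquiv.ofBijective f ⟨?_, hf⟩⟩
  rw [injective_iff_map_eq_zero]
  intro z hz
  exact congrArg Subtype.val (Subsingleton.elim (⟨z, hz⟩ : K) 0)

end Groth.Agent.LGAz
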