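import Groth.Agent.LGAz.Basic

/-! Cancellation for Azumaya algebras over local-global rings. -/

set_option autoImplicit false
set_option linter.style.haveILetI false

open TensorProduct

universe u v w w'

namespace Groth.Agent.LGAz

variable {R : Type u} [CommRing R]

section Unit
variable (A : Type v) [Ring A] [Algebra R A] (P : Type w) [AddCommGroup P] [Module R P]
  (m : P) (f : Module.Dual R P)

/-- the idempotent of the unimodular element -/
def eP : Module.End R P := f.smulRight m

/-- the corner coordinate -/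
noncomputable def piC : A ⊗[R] Module.End R P →ₗ[R] A :=
  (TensorProduct.rid R A).toLinearMap ∘ₗ (f ∘ₗ LinearMap.applyₗ m).lTensor A

/-- the corner inclusion -/
noncomputable def iotaC : A →ₗ[R] A ⊗[R] Module.End R P :=
  (TensorProduct.mk R A (Module.End R P)).flip (eP P m f)

theorem iotaC_apply (a : A) : iotaC A P m f a = a ⊗ₜ[R] eP P m f := rfl

variable {A P m f} (hm : f m = 1)
include hm

theorem eP_mul : eP P m f * eP P m f = eP P m f := by
  ext x; simp [eP, hm]

theorem piC_iotaC (a : A) : piC A P m f (iotaC A P m f a) = a := by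
  simp [piC, iotaC_apply, eP, hm]

theorem iotaC_mul (a b : A) :
    iotaC A P m f a * iotaC A P m f b = iotaC A P m f (a * b) := by
  rw [iotaC_apply, iotaC_apply, iotaC_apply, Algebra.TensorProduct.tmul_mul_tmul, eP_mul hm]

theorem iotaC_piC (x : A ⊗[R] Module.End R P) :
    iotaC A P m f (piC A P m f x) = iotaC A P m f 1 * x * iotaC A P m f 1 := by
  induction x using TensorProduct.induction_on with
  | zero => simp
  | tmul a T =>
    have : eP P m f * T * eP P m f = f (T m) • eP P m f := by
      ext x; simp [eP, smul_smul, mul_comm]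
    simp [piC, iotaC_apply, Algebra.TensorProduct.tmul_mul_tmul, this, TensorProduct.smul_tmul]
  | add x y hx hy => simp only [map_add, mul_add, add_mul, hx, hy]

/-- the left ideal generated by the corner idempotent -/
noncomputable def leftIdealEquiv :
    LinearMap.range (LinearMap.toSpanSingleton (A ⊗[R] Module.End R P) (A ⊗[R] Module.End R P)
      (iotaC A P m f 1)) ≃ₗ[R] A ⊗[R] P :=
  let E := A ⊗[R] Module.End R P
  let ev : E →ₗ[R] A ⊗[R] P := (LinearMap.applyₗ m).lTensor A
  let em : A ⊗[R] P →ₗ[R] E := (LinearMap.smulRightₗ (R := R) f).lTensor A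
  have h1 : ∀ z, em z * iotaC A P m f 1 = em z := fun z => by
    induction z using TensorProduct.induction_on with
    | zero => simp
    | tmul a p =>
      have : f.smulRight p * eP P m f = f.smulRight p := by ext x; simp [eP, hm, Module.End.mul_apply]
      show (a ⊗ₜ[R] f.smulRight p) * ((1 : A) ⊗ₜ[R] eP P m f) = a ⊗ₜ[R] f.smulRight p
      rw [Algebra.TensorProduct.tmul_mul_tmul, mul_one, this]
    | add x y hx hy => simp only [map_add, add_mul, hx, hy]
  have h2 : ∀ x : E, em (ev x) = x * iotaC A P m f 1 := fun x => by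
    induction x using TensorProduct.induction_on with
    | zero => simp
    | tmul a T =>
      have : T * eP P m f = f.smulRight (T m) := by ext x; simp [eP, Module.End.mul_apply]
      show a ⊗ₜ[R] f.smulRight (T m) = (a ⊗ₜ[R] T) * ((1 : A) ⊗ₜ[R] eP P m f)
      rw [Algebra.TensorProduct.tmul_mul_tmul, mul_one, this]
    | add x y hx hy => simp only [map_add, add_mul, hx, hy]
  have h3 : ∀ z, ev (em z) = z := fun z => by
    induction z using TensorProduct.induction_on with
    | zero => simp
    | tmul a p =>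
      show a ⊗ₜ[R] (f m • p) = a ⊗ₜ[R] p
      rw [hm, one_smul]
    | add x y hx hy => simp only [map_add, hx, hy]
  { toFun := fun x => ev x.1
    map_add' := fun x y => map_add ev x.1 y.1
    map_smul' := fun c x => map_smul ev c x.1
    invFun := fun z => ⟨em z, LinearMap.mem_range.2 ⟨em z, h1 z⟩⟩
    left_inv := fun x => Subtype.ext <| by
      obtain ⟨y, hy⟩ := LinearMap.mem_range.1 x.2
      show em (ev x.1) = x.1
      rw [h2, ← hy, LinearMap.toSpanSingleton_apply, smul_eq_mul, mul_assoc, iotaC_mul hm, one_mul]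
    right_inv := h3 }

end Unit

section Corner
variable {S : Type w} [Ring S] [Algebra R S] {A : Type v} [Ring A] [Algebra R A] {B : Type w'} [Ring B]
  [Algebra R B]

/-- algebras realised as corners at equivalent idempotents are isomorphic -/
theorem nonempty_algEquiv_of_corners (iA : A →ₗ[R] S) (pA : S →ₗ[R] A) (iB : B →ₗ[R] S)
    (pB : S →ₗ[R] B) (hA : ∀ a, pA (iA a) = a) (hAm : ∀ a b, iA a * iA b = iA (a * b))
    (hA' : ∀ x, iA (pA x) = iA 1 * x * iA 1)
    (hB : ∀ a, pB (iB a) = a) (hBm : ∀ a b, iB a * iB b = iB (a * b))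
    (hB' : ∀ x, iB (pB x) = iB 1 * x * iB 1)
    (u v : S) (huv : u * v = iA 1) (hvu : v * u = iB 1)
    (hu : iA 1 * u = u) (hu' : u * iB 1 = u) (hv : iB 1 * v = v) (hv' : v * iA 1 = v) :
    Nonempty (A ≃ₐ[R] B) := by
  have injB : Function.Injective iB := Function.LeftInverse.injective hB
  let φ : A →ₗ[R] B := pB ∘ₗ LinearMap.mulRight R u ∘ₗ LinearMap.mulLeft R v ∘ₗ iA
  let ψ : B →ₗ[R] A := pA ∘ₗ LinearMap.mulRight R v ∘ₗ LinearMap.mulLeft R u ∘ₗ iB
  have hφ : ∀ a, iB (φ a) = v * iA a * u := fun a => by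
    show iB (pB (v * iA a * u)) = _
    rw [hB', mul_assoc, mul_assoc (v * iA a), hu', mul_assoc v, ← mul_assoc, hv]
  have hψ : ∀ b, iA (ψ b) = u * iB b * v := fun b => by
    show iA (pA (u * iB b * v)) = _
    rw [hA', mul_assoc, mul_assoc (u * iB b), hv', mul_assoc u, ← mul_assoc, hu]
  have injA : Function.Injective iA := Function.LeftInverse.injective hA
  have e1 : ∀ a, ψ (φ a) = a := fun a => injA <| by
    rw [hψ, hφ, show u * (v * iA a * u) * v = (u * v) * iA a * (u * v) by simp only [mul_assoc],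
      huv, hAm, hAm, one_mul, mul_one]
  have e2 : ∀ b, φ (ψ b) = b := fun b => injB <| by
    rw [hφ, hψ, show v * (u * iB b * v) * u = (v * u) * iB b * (v * u) by simp only [mul_assoc],
      hvu, hBm, hBm, one_mul, mul_one]
  refine ⟨AlgEquiv.ofLinearEquiv (LinearEquiv.ofLinearMap φ ψ (LinearMap.ext e2) (LinearMap.ext e1))
    ?_ ?_⟩
  · show φ 1 = 1
    apply injB
    rw [hφ, hv', hvu]
  · intro a b
    show φ (a * b) = φ a * φ b
    apply injB
    rw [← hBm, hφ, hφ, hφ, ← hAm,
      show v * iA a * u * (v * iA b * u) = v * iA a * (u * v) * iA b * u by simp only [mul_assoc],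
      huv, mul_assoc v (iA a) (iA 1), hAm a 1, mul_one, mul_assoc v (iA a) (iA b)]

end Corner

theorem rankAtStalk_pos (P : Type w) [AddCommGroup P] [Module R P] [Module.Finite R P]
    [Module.Projective R P] [FaithfulSMul R P] (p : PrimeSpectrum R) :
    0 < Module.rankAtStalk (R := R) P p := by
  rw [Module.rankAtStalk_pos_iff_mem_support, Module.support_eq_zeroLocus,
    Module.annihilator_eq_bot.mpr inferInstance]
  simp

theorem rankAtStalk_end (P : Type w) [AddCommGroup P] [Module R P] [Module.Finite R P]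
    [Module.Projective R P] (p : PrimeSpectrum R) :
    Module.rankAtStalk (R := R) (Module.End R P) p =
      Module.rankAtStalk (R := R) P p * Module.rankAtStalk (R := R) P p :=
  CSA.rankAtStalk_linearMap R P P p

theorem nonempty_algEquiv (hR : LGRing.IsLGRing R) (A : Type v) (B : Type w') [Ring A] [Algebra R A]
    [IsAzumaya R A] [Ring B] [Algebra R B] [IsAzumaya R B]
    (hdeg : ∀ p : PrimeSpectrum R, Module.rankAtStalk A p = Module.rankAtStalk B p)
    (P : Type w) (Q : Type w) [AddCommGroup P] [Module R P] [Module.Finite R P] [Module.Projective R P]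
    [FaithfulSMul R P] [AddCommGroup Q] [Module R Q] [Module.Finite R Q] [Module.Projective R Q]
    [FaithfulSMul R Q]
    (φ : A ⊗[R] Module.End R P ≃ₐ[R] B ⊗[R] Module.End R Q) : Nonempty (A ≃ₐ[R] B) := by
  obtain ⟨m, f, hm⟩ := LGRingLib.exists_unimodular hR P
  obtain ⟨m', f', hm'⟩ := LGRingLib.exists_unimodular hR Q
  haveI := CSA.isAzumaya_moduleEnd R P
  haveI := CSA.isAzumaya_moduleEnd R Q
  haveI : IsAzumaya R (A ⊗[R] Module.End R P) := CSA.isAzumaya_tensorProduct R A (Module.End R P)
  let iA := iotaC A P m f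
  let pA := piC A P m f
  let iB : B →ₗ[R] A ⊗[R] Module.End R P := φ.symm.toLinearMap ∘ₗ iotaC B Q m' f'
  let pB : A ⊗[R] Module.End R P →ₗ[R] B := piC B Q m' f' ∘ₗ φ.toLinearMap
  have hiB : ∀ b, iB b = φ.symm (iotaC B Q m' f' b) := fun b => rfl
  have hB : ∀ a, pB (iB a) = a := fun a => by
    show piC B Q m' f' (φ (φ.symm _)) = a
    rw [AlgEquiv.apply_symm_apply, piC_iotaC hm']
  have hBm : ∀ a b, iB a * iB b = iB (a * b) := fun a b => by
    rw [hiB, hiB, hiB, ← map_mul, iotaC_mul hm']
  have hB' : ∀ x, iB (pB x) = iB 1 * x * iB 1 := fun x => by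
    show φ.symm (iotaC B Q m' f' (piC B Q m' f' (φ x))) = _
    rw [iotaC_piC hm', map_mul, map_mul, AlgEquiv.symm_apply_apply]
    rfl
  let S := A ⊗[R] Module.End R P
  let e₁ : S := iA 1
  let e₂ : S := iB 1
  have he₁ : e₁ * e₁ = e₁ := by rw [iotaC_mul hm, one_mul]
  have he₂ : e₂ * e₂ = e₂ := by rw [hBm, one_mul]
  let I₁ := LinearMap.range (LinearMap.toSpanSingleton S S e₁)
  let I₂ := LinearMap.range (LinearMap.toSpanSingleton S S e₂)
  have proj : ∀ e : S, e * e = e → Module.Finite S (LinearMap.range (LinearMap.toSpanSingleton S S e)) ∧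
      Module.Projective S (LinearMap.range (LinearMap.toSpanSingleton S S e)) := fun e he =>
    ⟨Module.Finite.range _, Module.Projective.of_split (Submodule.subtype _)
      (LinearMap.toSpanSingleton S S e).rangeRestrict (LinearMap.ext fun x => Subtype.ext <| by
        obtain ⟨y, hy⟩ := LinearMap.mem_range.1 x.2
        show x.1 • e = x.1
        rw [← hy, LinearMap.toSpanSingleton_apply, smul_eq_mul, smul_eq_mul, mul_assoc, he])⟩
  obtain ⟨_, _⟩ := proj e₁ he₁
  obtain ⟨_, _⟩ := proj e₂ he₂
  let t₁ : I₁ ≃ₗ[R] A ⊗[R] P := leftIdealEquiv hm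
  let t₂a : I₂ ≃ₗ[R] LinearMap.range (LinearMap.toSpanSingleton (B ⊗[R] Module.End R Q)
      (B ⊗[R] Module.End R Q) (iotaC B Q m' f' 1)) :=
      { toFun := fun x => ⟨φ x.1, by
          obtain ⟨y, hy⟩ := LinearMap.mem_range.1 x.2
          refine LinearMap.mem_range.2 ⟨φ y, ?_⟩
          rw [← hy, LinearMap.toSpanSingleton_apply, LinearMap.toSpanSingleton_apply, smul_eq_mul,
            smul_eq_mul, map_mul, show φ e₂ = iotaC B Q m' f' 1 from φ.apply_symm_apply _]⟩
        map_add' := fun x y => Subtype.ext (map_add φ x.1 y.1)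
        map_smul' := fun c x => Subtype.ext (φ.toLinearMap.map_smul c x.1)
        invFun := fun x => ⟨φ.symm x.1, by
          obtain ⟨y, hy⟩ := LinearMap.mem_range.1 x.2
          refine LinearMap.mem_range.2 ⟨φ.symm y, ?_⟩
          rw [← hy, LinearMap.toSpanSingleton_apply, LinearMap.toSpanSingleton_apply, smul_eq_mul,
            smul_eq_mul, map_mul]
          rfl⟩
        left_inv := fun x => Subtype.ext (φ.symm_apply_apply x.1)
        right_inv := fun x => Subtype.ext (φ.apply_symm_apply x.1) }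
  let t₂ : I₂ ≃ₗ[R] B ⊗[R] Q := t₂a.trans (leftIdealEquiv (A := B) hm')
  have hr : ∀ p, Module.rankAtStalk (R := R) I₁ p = Module.rankAtStalk I₂ p := by
    intro p
    have r1 : Module.rankAtStalk (R := R) I₁ p = Module.rankAtStalk (R := R) (A ⊗[R] P) p :=
      congrFun (Module.rankAtStalk_eq_of_equiv (M := I₁) (N := A ⊗[R] P) t₁) p
    have r2 : Module.rankAtStalk (R := R) I₂ p = Module.rankAtStalk (R := R) (B ⊗[R] Q) p :=
      congrFun (Module.rankAtStalk_eq_of_equiv (M := I₂) (N := B ⊗[R] Q) t₂) p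
    rw [r1, r2, Module.rankAtStalk_tensorProduct, Module.rankAtStalk_tensorProduct, Pi.mul_apply, Pi.mul_apply]
    have hh := congrFun (Module.rankAtStalk_eq_of_equiv φ.toLinearEquiv) p
    rw [Module.rankAtStalk_tensorProduct, Module.rankAtStalk_tensorProduct, Pi.mul_apply, Pi.mul_apply,
      rankAtStalk_end, rankAtStalk_end, hdeg p] at hh
    have hB0 : 0 < Module.rankAtStalk (R := R) B p := rankAtStalk_pos B p
    rw [hdeg p]
    congr 1
    exact (Nat.mul_self_inj).1 (Nat.eq_of_mul_eq_mul_left hB0 hh)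
  obtain ⟨g⟩ := nonempty_linearEquiv (A := S) I₁ I₂ hR hr
  let g₁ : I₁ := ⟨e₁, LinearMap.mem_range.2 ⟨1, one_mul _⟩⟩
  let g₂ : I₂ := ⟨e₂, LinearMap.mem_range.2 ⟨1, one_mul _⟩⟩
  let u : S := (g g₁).1
  let v : S := (g.symm g₂).1
  have mem : ∀ (e : S), e * e = e →
      ∀ x : LinearMap.range (LinearMap.toSpanSingleton S S e), x.1 * e = x.1 := fun e he x => by
    obtain ⟨y, hy⟩ := LinearMap.mem_range.1 x.2
    rw [← hy, LinearMap.toSpanSingleton_apply, smul_eq_mul, mul_assoc, he]
  have hgu : ∀ x : I₁, (g x).1 = x.1 * u := fun x => by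
    have : x = x.1 • g₁ := Subtype.ext (mem e₁ he₁ x).symm
    conv_lhs => rw [this, map_smul]
    rfl
  have hgv : ∀ x : I₂, (g.symm x).1 = x.1 * v := fun x => by
    have : x = x.1 • g₂ := Subtype.ext (mem e₂ he₂ x).symm
    conv_lhs => rw [this, map_smul]
    rfl
  refine nonempty_algEquiv_of_corners iA pA iB pB (piC_iotaC hm) (iotaC_mul hm) (iotaC_piC hm)
    hB hBm hB' u v ?_ ?_ (hgu g₁).symm (mem e₂ he₂ _) (hgv g₂).symm (mem e₁ he₁ _)
  · have := hgv (g g₁)
    rw [g.symm_apply_apply] at this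
    exact this.symm
  · have := hgu (g.symm g₂)
    rw [g.apply_symm_apply] at this
    exact this.symm

end Groth.Agent.LGAz
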